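import Mathlib
import Cfsg.Agent.Lib.Helper9.SpFus1

set_option autoImplicit false

/-!
Siegel route for the minimal degrees of `Sp_2n(q)` (S2333, S2347): the additive group of
symmetric matrices, its parametrisation of the Siegel radical, and the Levi action on it.
-/

namespace Cfsg.Agent.Lib.Helper6.Siegel

open Matrix Cfsg.Agent.H9SpF

variable {F : Type*} [Field F] {n : ℕ}

/-- the additive group of symmetric matrices -/
def symAdd (n : ℕ) (F : Type*) [Field F] : AddSubgroup (Matrix (Fin n) (Fin n) F) where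
  carrier := {S | S.IsSymm}
  zero_mem' := Matrix.isSymm_zero
  add_mem' := fun ha hb => Matrix.IsSymm.add ha hb
  neg_mem' := fun ha => Matrix.IsSymm.neg ha

theorem mem_symAdd {S : Matrix (Fin n) (Fin n) F} : S ∈ symAdd n F ↔ S.IsSymm := Iff.rfl

/-- the Siegel parametrisation -/
def siegHom (S : symAdd n F) : symplecticGroup (Fin n) F := sieg S.1 (mem_symAdd.1 S.2)

theorem siegHom_coe (S : symAdd n F) :
    ((siegHom S : symplecticGroup (Fin n) F) : Matrix (Fin n ⊕ Fin n) (Fin n ⊕ Fin n) F) =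
      siegM S.1 := rfl

theorem siegHom_add (S S' : symAdd n F) : siegHom (S + S') = siegHom S * siegHom S' := by
  apply Subtype.ext
  show siegM (S.1 + S'.1) = siegM S.1 * siegM S'.1
  rw [siegM_mul]

/-- congruence `S ↦ P S Pᵀ` on symmetric matrices -/
def congT (P : GL (Fin n) F) : symAdd n F ≃+ symAdd n F where
  toFun S := ⟨(P : Matrix (Fin n) (Fin n) F) * S.1 * (P : Matrix (Fin n) (Fin n) F)ᵀ,
    isSymm_conj S.2 _⟩
  invFun S := ⟨((P⁻¹ : GL (Fin n) F) : Matrix (Fin n) (Fin n) F) * S.1 *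
    ((P⁻¹ : GL (Fin n) F) : Matrix (Fin n) (Fin n) F)ᵀ, isSymm_conj S.2 _⟩
  left_inv S := by
    apply Subtype.ext
    show ((P⁻¹ : GL (Fin n) F) : Matrix (Fin n) (Fin n) F) *
      ((P : Matrix (Fin n) (Fin n) F) * S.1 * (P : Matrix (Fin n) (Fin n) F)ᵀ) *
      ((P⁻¹ : GL (Fin n) F) : Matrix (Fin n) (Fin n) F)ᵀ = S.1
    have h1 : ((P⁻¹ : GL (Fin n) F) : Matrix (Fin n) (Fin n) F) * (P : Matrix (Fin n) (Fin n) F) = 1 := by
      rw [← Units.val_mul, inv_mul_cancel, Units.val_one]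
    have h2 : (P : Matrix (Fin n) (Fin n) F)ᵀ * ((P⁻¹ : GL (Fin n) F) : Matrix (Fin n) (Fin n) F)ᵀ = 1 := by
      rw [← Matrix.transpose_mul, h1, Matrix.transpose_one]
    calc _ = (((P⁻¹ : GL (Fin n) F) : Matrix (Fin n) (Fin n) F) * (P : Matrix (Fin n) (Fin n) F)) * S.1 *
          ((P : Matrix (Fin n) (Fin n) F)ᵀ * ((P⁻¹ : GL (Fin n) F) : Matrix (Fin n) (Fin n) F)ᵀ) := by
            simp only [Matrix.mul_assoc]
      _ = S.1 := by rw [h1, h2, Matrix.one_mul, Matrix.mul_one]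
  right_inv S := by
    apply Subtype.ext
    show (P : Matrix (Fin n) (Fin n) F) *
      (((P⁻¹ : GL (Fin n) F) : Matrix (Fin n) (Fin n) F) * S.1 *
        ((P⁻¹ : GL (Fin n) F) : Matrix (Fin n) (Fin n) F)ᵀ) *
      (P : Matrix (Fin n) (Fin n) F)ᵀ = S.1
    have h1 : (P : Matrix (Fin n) (Fin n) F) * ((P⁻¹ : GL (Fin n) F) : Matrix (Fin n) (Fin n) F) = 1 := by
      rw [← Units.val_mul, mul_inv_cancel, Units.val_one]
    have h2 : ((P⁻¹ : GL (Fin n) F) : Matrix (Fin n) (Fin n) F)ᵀ * (P : Matrix (Fin n) (Fin n) F)ᵀ = 1 := by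
      rw [← Matrix.transpose_mul, h1, Matrix.transpose_one]
    calc _ = ((P : Matrix (Fin n) (Fin n) F) * ((P⁻¹ : GL (Fin n) F) : Matrix (Fin n) (Fin n) F)) * S.1 *
          (((P⁻¹ : GL (Fin n) F) : Matrix (Fin n) (Fin n) F)ᵀ * (P : Matrix (Fin n) (Fin n) F)ᵀ) := by
            simp only [Matrix.mul_assoc]
      _ = S.1 := by rw [h1, h2, Matrix.one_mul, Matrix.mul_one]
  map_add' S S' := by
    apply Subtype.ext
    show (P : Matrix (Fin n) (Fin n) F) * (S.1 + S'.1) * (P : Matrix (Fin n) (Fin n) F)ᵀ =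
      (P : Matrix (Fin n) (Fin n) F) * S.1 * (P : Matrix (Fin n) (Fin n) F)ᵀ +
        (P : Matrix (Fin n) (Fin n) F) * S'.1 * (P : Matrix (Fin n) (Fin n) F)ᵀ
    rw [Matrix.mul_add, Matrix.add_mul]

theorem congT_val (P : GL (Fin n) F) (S : symAdd n F) :
    (congT P S).1 = (P : Matrix (Fin n) (Fin n) F) * S.1 * (P : Matrix (Fin n) (Fin n) F)ᵀ := rfl

/-- the Levi element `lev P` acts on the Siegel radical by congruence -/
theorem lev_conj_siegHom (P : GL (Fin n) F) (S : symAdd n F) :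
    lev P * siegHom S * (lev P)⁻¹ = siegHom (congT P S) := by
  have h := lev_conj_sieg P S.1 (mem_symAdd.1 S.2)
  exact h

end Cfsg.Agent.Lib.Helper6.Siegel
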